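import Mathlib
import Cfsg.Agent.OddOrderLocal.GLTwoOdd

/-!
# Elements of order `p` of `SL(n, r)`, `n ≤ 2`, `p` odd, `p ≠ r`

Two commuting elements of order `p` and determinant 1 generate a cyclic group.
-/

set_option autoImplicit false

namespace Cfsg.Agent.QTSolv.GLTwo

open Matrix Cfsg.Agent.OddOrderLocal.GLTwoOdd

section Field

variable {K : Type*} [Field K]

/-- A matrix of determinant 1 with a fixed vector and order prime to the characteristic is trivial. -/
theorem eq_one_of_fixed {p : ℕ} (hp : (p : K) ≠ 0) (M : Matrix (Fin 2) (Fin 2) K) (hd : M.det = 1)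
    {v : Fin 2 → K} (hv0 : v ≠ 0) (hv : M *ᵥ v = v) (hMp : M ^ p = 1) : M = 1 := by
  have hw : ∀ w : Fin 2 → K, ∃ c : K, M *ᵥ w = w + c • v := by
    intro w
    have h1 := dd_mulVec M v w
    rw [hd, one_mul, hv] at h1
    have h2 : dd v (M *ᵥ w + (-1 : K) • w) = 0 := by
      rw [dd_add_right, dd_smul_right, h1]
      ring
    obtain ⟨c, hc⟩ := exists_smul_of_dd_eq_zero hv0 h2
    refine ⟨c, ?_⟩
    rw [← hc]
    simp
  have hpow : ∀ (n : ℕ) (w : Fin 2 → K) (c : K), M *ᵥ w = w + c • v → M ^ n *ᵥ w = w + (n * c) • v := by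
    intro n w c hc
    induction n with
    | zero => simp
    | succ n ih =>
      rw [pow_succ', ← Matrix.mulVec_mulVec, ih, Matrix.mulVec_add, Matrix.mulVec_smul, hv, hc]
      push_cast
      rw [add_assoc, ← add_smul]
      congr 2
      ring
  ext i j
  obtain ⟨c, hc⟩ := hw (Pi.single j 1)
  have h1 := hpow p _ c hc
  rw [hMp, Matrix.one_mulVec] at h1
  have h2 : (p * c) • v = 0 := by
    have := congrArg (fun x => x - Pi.single j 1) h1
    simpa using this.symm
  have h3 : c = 0 := by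
    rcases smul_eq_zero.1 h2 with h | h
    · exact (mul_eq_zero.1 h).resolve_left hp
    · exact absurd h hv0
  rw [h3, zero_smul, add_zero] at hc
  have h4 := congrFun hc i
  rw [Matrix.mulVec_single_one] at h4
  rw [Matrix.one_apply]
  have h5 : M i j = (Pi.single j (1 : K) : Fin 2 → K) i := h4
  rw [h5, Pi.single_apply]

/-- Over an algebraically closed field: if `X`, `Y` commute, have determinant 1 and `p`-th power 1 (`p` odd, not the
characteristic) and `X ≠ 1`, then `Y` is a power of `X`. -/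
theorem exists_pow_of_isAlgClosed [IsAlgClosed K] {p : ℕ} (hpp : p.Prime) (hp2 : p ≠ 2) (hp : (p : K) ≠ 0)
    (X Y : Matrix (Fin 2) (Fin 2) K) (hXd : X.det = 1) (hYd : Y.det = 1) (hXp : X ^ p = 1) (hYp : Y ^ p = 1)
    (hXY : X * Y = Y * X) (hX : X ≠ 1) : ∃ k : ℕ, Y = X ^ k := by
  obtain ⟨μ, hμ⟩ := Module.End.exists_eigenvalue (Matrix.toLin' X)
  obtain ⟨v, hv⟩ := hμ.exists_hasEigenvector
  have hv1 : X *ᵥ v = μ • v := by
    have := hv.apply_eq_smul
    simpa using this
  have hv0 : v ≠ 0 := hv.2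
  have hpowX : ∀ n : ℕ, X ^ n *ᵥ v = μ ^ n • v := by
    intro n
    induction n with
    | zero => simp
    | succ n ih => rw [pow_succ, ← Matrix.mulVec_mulVec, hv1, Matrix.mulVec_smul, ih, smul_smul, pow_succ, mul_comm]
  have hμp : μ ^ p = 1 := by
    have h1 := hpowX p
    rw [hXp, Matrix.one_mulVec] at h1
    have h2 : (μ ^ p - 1) • v = 0 := by rw [sub_smul, one_smul, ← h1, sub_self]
    exact sub_eq_zero.1 ((smul_eq_zero.1 h2).resolve_right hv0)
  have hμ1 : μ ≠ 1 := by
    intro h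
    rw [h, one_smul] at hv1
    exact hX (eq_one_of_fixed hp X hXd hv0 hv1 hXp)
  have hprim : IsPrimitiveRoot μ p := IsPrimitiveRoot.mk_of_lt μ hpp.pos hμp (by
    intro l hl0 hlp hl
    have h1 : orderOf μ ∣ l := orderOf_dvd_of_pow_eq_one hl
    have h2 : orderOf μ ∣ p := orderOf_dvd_of_pow_eq_one hμp
    rcases (Nat.dvd_prime hpp).1 h2 with h3 | h3
    · exact hμ1 (orderOf_eq_one_iff.1 h3)
    · rw [h3] at h1
      exact absurd (Nat.le_of_dvd hl0 h1) (not_le.2 hlp))
  have hμ2 : μ ^ 2 ≠ 1 := by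
    intro h
    have h1 := hprim.dvd_of_pow_eq_one 2 h
    exact hp2 ((Nat.prime_dvd_prime_iff_eq hpp Nat.prime_two).1 h1)
  -- `Y v` is a multiple of `v`
  have hYv : ∃ ν : K, Y *ᵥ v = ν • v := by
    apply exists_smul_of_dd_eq_zero hv0
    by_contra h
    have h1 : X *ᵥ (Y *ᵥ v) = μ • (Y *ᵥ v) := by
      rw [Matrix.mulVec_mulVec, hXY, ← Matrix.mulVec_mulVec, hv1, Matrix.mulVec_smul]
    have h2 := dd_mulVec X v (Y *ᵥ v)
    rw [hXd, one_mul, hv1, h1, dd_smul_left, dd_smul_right, ← mul_assoc, ← pow_two] at h2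
    apply hμ2
    apply mul_right_cancel₀ h
    rw [h2, one_mul]
  obtain ⟨ν, hν⟩ := hYv
  have hpowY : ∀ n : ℕ, Y ^ n *ᵥ v = ν ^ n • v := by
    intro n
    induction n with
    | zero => simp
    | succ n ih => rw [pow_succ, ← Matrix.mulVec_mulVec, hν, Matrix.mulVec_smul, ih, smul_smul, pow_succ, mul_comm]
  have hνp : ν ^ p = 1 := by
    have h1 := hpowY p
    rw [hYp, Matrix.one_mulVec] at h1
    have h2 : (ν ^ p - 1) • v = 0 := by rw [sub_smul, one_smul, ← h1, sub_self]
    exact sub_eq_zero.1 ((smul_eq_zero.1 h2).resolve_right hv0)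
  have hpne : NeZero p := ⟨hpp.ne_zero⟩
  obtain ⟨k, hkp, hk⟩ := hprim.eq_pow_of_pow_eq_one hνp
  refine ⟨k, ?_⟩
  -- `Y X^(p-k)` fixes `v`
  have hcomm : Commute Y X := hXY.symm
  have hcommk : Commute Y (X ^ (p - k)) := hcomm.pow_right _
  have hZ : Y * X ^ (p - k) = 1 := by
    refine eq_one_of_fixed hp _ ?_ hv0 ?_ ?_
    · rw [Matrix.det_mul, Matrix.det_pow, hYd, hXd, one_pow, one_mul]
    · rw [← Matrix.mulVec_mulVec, hpowX, Matrix.mulVec_smul, hν, smul_smul, ← hk, ← pow_add,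
        Nat.sub_add_cancel hkp.le, hμp, one_smul]
    · rw [hcommk.mul_pow, hYp, one_mul, ← pow_mul, mul_comm, pow_mul, hXp, one_pow]
  calc Y = Y * X ^ p := by rw [hXp, mul_one]
    _ = (Y * X ^ (p - k)) * X ^ k := by rw [mul_assoc, ← pow_add, Nat.sub_add_cancel hkp.le]
    _ = X ^ k := by rw [hZ, one_mul]

/-- The same over any field. -/
theorem exists_pow {p : ℕ} (hpp : p.Prime) (hp2 : p ≠ 2) (hp : (p : K) ≠ 0)
    (X Y : Matrix (Fin 2) (Fin 2) K) (hXd : X.det = 1) (hYd : Y.det = 1) (hXp : X ^ p = 1) (hYp : Y ^ p = 1)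
    (hXY : X * Y = Y * X) (hX : X ≠ 1) : ∃ k : ℕ, Y = X ^ k := by
  let ι : K →+* AlgebraicClosure K := algebraMap K (AlgebraicClosure K)
  have hι : Function.Injective ι := ι.injective
  have hι' : Function.Injective (ι.mapMatrix : Matrix (Fin 2) (Fin 2) K →+* _) := by
    intro A B h
    ext i j
    exact hι (congrFun (congrFun h i) j)
  obtain ⟨k, hk⟩ := exists_pow_of_isAlgClosed (K := AlgebraicClosure K) hpp hp2 (by
      intro h
      apply hp
      apply hι
      rw [map_natCast, h, map_zero]) (ι.mapMatrix X) (ι.mapMatrix Y)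
    (by rw [← RingHom.map_det, hXd, map_one]) (by rw [← RingHom.map_det, hYd, map_one])
    (by rw [← map_pow, hXp, map_one]) (by rw [← map_pow, hYp, map_one])
    (by rw [← map_mul, hXY, map_mul]) (by
      intro h
      apply hX
      apply hι'
      rw [h, map_one])
  refine ⟨k, hι' ?_⟩
  rw [hk, map_pow]

end Field

/-- **A `p`-subgroup of `SL(n, r)`, `n ≤ 2`, has `p`-rank at most 1** (`p` odd, `p ≠ r`). -/
theorem exists_pow_GL {r p : ℕ} [Fact r.Prime] (hpp : p.Prime) (hp2 : p ≠ 2) (hpr : p ≠ r) {n : ℕ} (hn : n ≤ 2)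
    (X Y : GL (Fin n) (ZMod r)) (hXd : Matrix.GeneralLinearGroup.det X = 1)
    (hYd : Matrix.GeneralLinearGroup.det Y = 1) (hXp : X ^ p = 1) (hYp : Y ^ p = 1)
    (hXY : X * Y = Y * X) (hX : X ≠ 1) : ∃ k : ℕ, Y = X ^ k := by
  have hp : ((p : ℕ) : ZMod r) ≠ 0 := by
    rw [Ne, ZMod.natCast_eq_zero_iff]
    intro h
    exact hpr ((Nat.prime_dvd_prime_iff_eq Fact.out hpp).1 h).symm
  interval_cases n
  · exact absurd (Subsingleton.elim _ _) hX
  · exfalso
    apply hX
    apply Units.ext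
    ext i j
    fin_cases i
    fin_cases j
    have hd := congrArg Units.val hXd
    simpa [Matrix.GeneralLinearGroup.det] using hd
  · obtain ⟨k, hk⟩ := exists_pow hpp hp2 hp (X : Matrix (Fin 2) (Fin 2) (ZMod r)) (Y : Matrix (Fin 2) (Fin 2) (ZMod r))
      (by have := congrArg Units.val hXd; exact this) (by have := congrArg Units.val hYd; exact this)
      (by have := congrArg Units.val hXp; simpa using this) (by have := congrArg Units.val hYp; simpa using this)
      (by have := congrArg Units.val hXY; simpa using this)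
      (by intro h; exact hX (Units.ext (by simpa using h)))
    exact ⟨k, Units.ext (by simpa using hk)⟩

end Cfsg.Agent.QTSolv.GLTwo
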