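import Mathlib
import Cfsg.Prelude.Def_OddOrderLocal
import Cfsg.Agent.Lib.ElemAbGL
import Cfsg.Agent.OddOrderLocal.RankTwoAction
import Cfsg.Agent.OddOrderLocal.RankOneCyclic
import Cfsg.Agent.QTSolv.GLTwo

/-!
# Actions of `P` on `r`-groups of rank at most two

`Star P S` : no proper `S`-invariant normal subgroup of `P` has a cyclic quotient.
-/

set_option autoImplicit false
set_option linter.dupNamespace false

open scoped commutatorElement

namespace Cfsg.Agent.QTSolv.Star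

open Subgroup Cfsg
open Cfsg.Agent.OddOrderLocal

variable {H : Type*} [Group H]

/-- no proper `S`-invariant normal subgroup of `P` has a cyclic quotient -/
def Star (P S : Subgroup H) : Prop :=
  ∀ P₀ : Subgroup H, P₀ ≤ P → P ≤ normalizer (P₀ : Set H) → S ≤ normalizer (P₀ : Set H) →
    ∀ g ∈ P, P ≤ P₀ ⊔ zpowers g → P₀ = P

/-- a homomorphism with cyclic image of `P` is trivial on `P` -/
theorem map_eq_one {N P S : Subgroup H} (hPN : P ≤ N) (hSN : S ≤ N) (hSP : S ≤ normalizer (P : Set H))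
    (h : Star P S) {B : Type*} [Group B] (f : ↥N →* B) (hc : IsCyclic ↥((P.subgroupOf N).map f)) :
    ∀ x (hx : x ∈ P), f ⟨x, hPN hx⟩ = 1 := by
  set P₀ : Subgroup H := (P.subgroupOf N ⊓ f.ker).map N.subtype with hP₀
  have hmem : ∀ x : H, x ∈ P₀ ↔ ∃ hx : x ∈ P, f ⟨x, hPN hx⟩ = 1 := by
    intro x
    constructor
    · rintro ⟨y, ⟨hy1, hy2⟩, rfl⟩
      exact ⟨hy1, hy2⟩
    · rintro ⟨hx, h1⟩
      exact ⟨⟨x, hPN hx⟩, ⟨hx, h1⟩, rfl⟩
  have hinv : ∀ s ∈ N, s ∈ normalizer (P : Set H) → s ∈ normalizer (P₀ : Set H) := by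
    have key : ∀ s ∈ N, s ∈ normalizer (P : Set H) → ∀ x ∈ P₀, s * x * s⁻¹ ∈ P₀ := by
      intro s hs hsP x hx
      obtain ⟨hx1, hx2⟩ := (hmem x).1 hx
      refine (hmem _).2 ⟨(mem_normalizer_iff.1 hsP x).1 hx1, ?_⟩
      have : (⟨s * x * s⁻¹, hPN ((mem_normalizer_iff.1 hsP x).1 hx1)⟩ : ↥N) = ⟨s, hs⟩ * ⟨x, hPN hx1⟩ * ⟨s, hs⟩⁻¹ :=
        Subtype.ext rfl
      rw [this, map_mul, map_mul, hx2, mul_one, map_inv, mul_inv_cancel]
    intro s hs hsP
    rw [mem_normalizer_iff]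
    intro x
    refine ⟨key s hs hsP x, fun hx => ?_⟩
    have h1 := key s⁻¹ (N.inv_mem hs) (inv_mem hsP) _ hx
    rw [inv_inv] at h1
    have h2 : s⁻¹ * (s * x * s⁻¹) * s = x := by group
    rwa [h2] at h1
  obtain ⟨⟨_, g, hg, rfl⟩, hgen⟩ := hc.exists_generator
  have h1 : P₀ = P := by
    refine h P₀ ?_ (fun s hs => hinv s (hPN hs) (le_normalizer hs)) (fun s hs => hinv s (hSN hs) (hSP hs)) g hg ?_
    · intro x hx
      exact ((hmem x).1 hx).1
    · intro x hx
      obtain ⟨k, hk⟩ := mem_zpowers_iff.1 (hgen ⟨f ⟨x, hPN hx⟩, ⟨x, hPN hx⟩, hx, rfl⟩)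
      have hk' : (f g) ^ k = f ⟨x, hPN hx⟩ := congrArg Subtype.val hk
      have h2 : x * ((g : H) ^ k)⁻¹ ∈ P₀ := by
        refine (hmem _).2 ⟨P.mul_mem hx (P.inv_mem (P.zpow_mem hg k)), ?_⟩
        have : (⟨x * ((g : H) ^ k)⁻¹, hPN (P.mul_mem hx (P.inv_mem (P.zpow_mem hg k)))⟩ : ↥N)
            = ⟨x, hPN hx⟩ * (g ^ k)⁻¹ := Subtype.ext rfl
        rw [this, map_mul, map_inv, map_zpow, hk', mul_inv_cancel]
      have h3 : x = (x * ((g : H) ^ k)⁻¹) * (g : H) ^ k := by group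
      rw [h3]
      exact mul_mem (mem_sup_left h2) (mem_sup_right (zpow_mem (mem_zpowers _) k))
  intro x hx
  have h2 : x ∈ P₀ := by rw [h1]; exact hx
  exact ((hmem x).1 h2).2

theorem units_isCyclic {r : ℕ} [Fact r.Prime] (A : Subgroup (ZMod r)ˣ) : IsCyclic A := inferInstance

/-- The order of a `p`-group of automorphisms of an elementary abelian `p`-group of rank at most two divides `p`. -/
theorem card_map_dvd {A : Type*} [Group A] [Finite A] {p : ℕ} [hpf : Fact p.Prime] {P : Subgroup A} (hP : IsPGroup p P)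
    {V : Type*} [CommGroup V] [Finite V] (hV : ∀ v : V, v ^ p = 1) (hVc : Nat.card V ≤ p ^ 2)
    (f : A →* MulAut V) : Nat.card (P.map f) ∣ p := by
  have hp : p.Prime := hpf.out
  have hVr : IsPGroup p V := fun v => ⟨1, by rw [pow_one]; exact hV v⟩
  obtain ⟨n, hn⟩ := IsPGroup.iff_card.1 hVr
  have hn2 : n ≤ 2 := by
    rw [hn] at hVc
    exact (Nat.pow_le_pow_iff_right hp.one_lt).1 hVc
  obtain ⟨e⟩ := Lib.ElemAbGL.mulAut_equiv_GL p n hV hn
  have h1 : Nat.card (P.map f) ∣ Nat.card (GL (Fin n) (ZMod p)) := by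
    rw [← Nat.card_congr e.toEquiv]
    exact card_subgroup_dvd_card _
  obtain ⟨k, hk⟩ := IsPGroup.iff_card.1 (hP.map f)
  have h2 : k ≤ 1 := by
    by_contra hk2
    push Not at hk2
    have h3 : p ^ 2 ∣ Nat.card (GL (Fin n) (ZMod p)) := (pow_dvd_pow p hk2).trans (hk ▸ h1)
    rw [Matrix.card_GL_field, ZMod.card] at h3
    interval_cases n
    · simp at h3
      exact hp.one_lt.ne' h3
    · simp at h3
      have h4 : p ^ 2 ≤ p - 1 := Nat.le_of_dvd (Nat.sub_pos_of_lt hp.one_lt) h3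
      have h5 : p ≤ p ^ 2 := Nat.le_self_pow two_ne_zero p
      have := hp.one_lt
      omega
    · rw [Fin.prod_univ_two] at h3
      simp only [Fin.val_zero, Fin.val_one, pow_zero, pow_one] at h3
      have h4 : (p ^ 2 - 1) * (p ^ 2 - p) = p * ((p ^ 2 - 1) * (p - 1)) := by
        have : p ^ 2 - p = p * (p - 1) := by rw [Nat.mul_sub, mul_one, pow_two]
        rw [this]
        ring
      rw [h4, pow_two p] at h3
      have h5 : p ∣ (p ^ 2 - 1) * (p - 1) := Nat.dvd_of_mul_dvd_mul_left hp.pos (by rw [pow_two] at *; exact h3)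
      rcases (Nat.Prime.dvd_mul hp).1 h5 with h6 | h6
      · have h7 : p ∣ p ^ 2 := dvd_pow_self p two_ne_zero
        have h8 : 1 ≤ p ^ 2 := Nat.one_le_pow _ _ hp.pos
        have h9 : p ∣ 1 := by
          have := (Nat.dvd_sub h7 h6)
          rwa [Nat.sub_sub_self h8] at this
        exact hp.one_lt.ne' (Nat.dvd_one.1 h9)
      · have := Nat.le_of_dvd (Nat.sub_pos_of_lt hp.one_lt) h6
        have := hp.one_lt
        omega
  rw [hk]
  exact (pow_dvd_pow p h2).trans (by rw [pow_one])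

/-- A `p`-group acting on an elementary abelian `r`-group of rank at most two, normalised by `S` with `Star P S`, acts
trivially. -/
theorem trivial_of_card_le [Finite H] {p r : ℕ} (hp : p.Prime) (hp2 : p ≠ 2) [hr : Fact r.Prime] {N P S : Subgroup H}
    (hPN : P ≤ N) (hSN : S ≤ N) (hSP : S ≤ normalizer (P : Set H)) (h : Star P S) (hP : IsPGroup p P)
    {V : Type*} [CommGroup V] [Finite V] (hV : ∀ v : V, v ^ r = 1) (hVc : Nat.card V ≤ r ^ 2)
    (f : ↥N →* MulAut V) : ∀ x (hx : x ∈ P), f ⟨x, hPN hx⟩ = 1 := by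
  have hpf : Fact p.Prime := ⟨hp⟩
  have hVr : IsPGroup r V := fun v => ⟨1, by rw [pow_one]; exact hV v⟩
  obtain ⟨n, hn⟩ := IsPGroup.iff_card.1 hVr
  have hn2 : n ≤ 2 := by
    rw [hn] at hVc
    exact (Nat.pow_le_pow_iff_right hr.out.one_lt).1 hVc
  obtain ⟨e⟩ := Lib.ElemAbGL.mulAut_equiv_GL r n hV hn
  set f' : ↥N →* GL (Fin n) (ZMod r) := e.toMonoidHom.comp f with hf'
  have hred : (∀ x (hx : x ∈ P), f' ⟨x, hPN hx⟩ = 1) → ∀ x (hx : x ∈ P), f ⟨x, hPN hx⟩ = 1 := by
    intro h1 x hx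
    apply e.injective
    rw [map_one]
    exact h1 x hx
  apply hred
  have hPN' : IsPGroup p (P.subgroupOf N) := hP.comap_of_injective N.subtype N.subtype_injective
  have himg : IsPGroup p ((P.subgroupOf N).map f') := hPN'.map f'
  apply map_eq_one hPN hSN hSP h f'
  by_cases hpr : p = r
  · -- the image has order at most `p`
    subst hpr
    apply isCyclic_of_card_dvd_prime (p := p)
    have h1 : Nat.card ((P.subgroupOf N).map f') = Nat.card ((P.subgroupOf N).map f) := by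
      rw [hf', ← Subgroup.map_map]
      exact (Nat.card_congr (equivMapOfInjective _ e.toMonoidHom e.injective).toEquiv).symm
    rw [h1]
    exact card_map_dvd hPN' hV hVc f
  · -- determinant one
    have hdet : ∀ x (hx : x ∈ P), (Matrix.GeneralLinearGroup.det.comp f') ⟨x, hPN hx⟩ = 1 :=
      map_eq_one hPN hSN hSP h (Matrix.GeneralLinearGroup.det.comp f') inferInstance
    apply RankOneCyclic.isCyclic_of_pRankLE_one hp2 himg
    intro A hA hAp
    rw [pow_one]
    -- all elements of `A` are powers of one of them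
    have hAdet : ∀ a ∈ A, Matrix.GeneralLinearGroup.det (a : GL (Fin n) (ZMod r)) = 1 := by
      rintro ⟨_, g, hg, rfl⟩ ha
      exact hdet g hg
    by_cases hA1 : ∀ a ∈ A, a = 1
    · have : A = ⊥ := (eq_bot_iff_forall A).2 hA1
      rw [this, card_bot]
      exact hp.one_lt.le
    push Not at hA1
    obtain ⟨a, ha, ha1⟩ := hA1
    have h2 : A ≤ zpowers a := by
      intro b hb
      obtain ⟨k, hk⟩ := GLTwo.exists_pow_GL hp hp2 hpr hn2 (a : GL (Fin n) (ZMod r)) (b : GL (Fin n) (ZMod r))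
        (hAdet a ha) (hAdet b hb) (congrArg Subtype.val (hAp a ha)) (congrArg Subtype.val (hAp b hb))
        (congrArg (fun z : A => ((z : ↥((P.subgroupOf N).map f')) : GL (Fin n) (ZMod r)))
          (hA.is_comm.comm (⟨a, ha⟩ : A) ⟨b, hb⟩))
        (fun h3 => ha1 (Subtype.ext h3))
      rw [show b = a ^ k from Subtype.ext hk]
      exact pow_mem (mem_zpowers a) k
    calc Nat.card A ≤ Nat.card (zpowers a) := card_le_of_le h2
      _ = orderOf a := Nat.card_zpowers a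
      _ ≤ p := orderOf_le_of_pow_eq_one hp.pos (hAp a ha)

/-- `P` acts trivially on an `r`-group of rank at most two, `r ≠ p` odd. -/
theorem le_centralizer_of_rank [Finite H] {p r : ℕ} (hp : p.Prime) (hp2 : p ≠ 2) [hr : Fact r.Prime] (hr2 : r ≠ 2)
    (hpr : p ≠ r) {R P S : Subgroup H} (hR : IsPGroup r R) (hrk : PRankLE r 2 R) (hP : IsPGroup p P)
    (hPR : P ≤ normalizer (R : Set H)) (hSR : S ≤ normalizer (R : Set H)) (hSP : S ≤ normalizer (P : Set H))
    (h : Star P S) : P ≤ centralizer (R : Set H) := by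
  obtain ⟨D, θ, hexp, hcard, hθ⟩ := RankTwoAction.exists_module hr2 hR hrk
  have h1 := trivial_of_card_le hp hp2 (r := r) hPR hSR hSP h hP hexp hcard (θ.comp (normalizerMonoidHom R))
  intro x hx
  have h2 : normalizerMonoidHom R ⟨x, hPR hx⟩ = 1 := by
    apply hθ _ _ (h1 x hx)
    have h3 : orderOf (normalizerMonoidHom R ⟨x, hPR hx⟩) ∣ orderOf (⟨x, hPR hx⟩ : ↥(normalizer (R : Set H))) :=
      orderOf_map_dvd _ _
    obtain ⟨k, hk⟩ := hP ⟨x, hx⟩
    have hk' : x ^ p ^ k = 1 := congrArg Subtype.val hk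
    have h4 : (⟨x, hPR hx⟩ : ↥(normalizer (R : Set H))) ^ p ^ k = 1 := Subtype.ext hk'
    have h5 : orderOf (⟨x, hPR hx⟩ : ↥(normalizer (R : Set H))) ∣ p ^ k := orderOf_dvd_of_pow_eq_one h4
    exact Nat.Coprime.coprime_dvd_left (h3.trans h5)
      (Nat.Coprime.pow_left k ((Nat.coprime_primes hp hr.out).2 hpr))
  have h3 : (⟨x, hPR hx⟩ : ↥(normalizer (R : Set H))) ∈ (normalizerMonoidHom R).ker := h2
  rw [normalizerMonoidHom_ker] at h3
  exact h3

/-- If `s` and `c s` with `c` centralising `P`: the invariance of subgroups of `P` agrees. -/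
theorem star_of_modify {P S S' : Subgroup H} (hSP : S ≤ normalizer (P : Set H))
    (hS : ∀ s ∈ S, ∃ c ∈ centralizer (P : Set H), c * s ∈ S') (h : Star P S) : Star P S' := by
  intro P₀ hP₀ hn hS' g hg hle
  refine h P₀ hP₀ hn ?_ g hg hle
  have key : ∀ s ∈ S, ∀ x ∈ P₀, s * x * s⁻¹ ∈ P₀ := by
    intro s hs x hx
    obtain ⟨c, hc, hcs⟩ := hS s hs
    have h1 : (c * s) * x * (c * s)⁻¹ ∈ P₀ := (mem_normalizer_iff.1 (hS' hcs) x).1 hx
    have h2 : s * x * s⁻¹ ∈ P := (mem_normalizer_iff.1 (hSP hs) x).1 (hP₀ hx)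
    have h3 : (c * s) * x * (c * s)⁻¹ = s * x * s⁻¹ := by
      have h4 := (mem_centralizer_iff.1 hc) _ h2
      calc (c * s) * x * (c * s)⁻¹ = c * (s * x * s⁻¹) * c⁻¹ := by group
        _ = s * x * s⁻¹ := by rw [← h4]; group
    rwa [h3] at h1
  rw [le_normalizer_iff]
  exact key

end Cfsg.Agent.QTSolv.Star
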