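import Mathlib
import Cfsg.Agent.QTSolv.Star

/-!
# The pair `(P, S)` with `S` irreducible on `P / F`, `|P / F| = p²`
-/

set_option autoImplicit false

open scoped commutatorElement Pointwise

namespace Cfsg.Agent.QTSolv.Data

open Subgroup Cfsg
open Cfsg.Agent.QTSolv.Star

variable {H : Type*} [Group H]

/-- `P` a `p`-group, `F = Φ(P)` of order 1 or `p` and index `p²`, `S` normalises `P` and is irreducible on `P / F`. -/
structure Dat (p : ℕ) (P S F : Subgroup H) : Prop where
  prime : p.Prime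
  odd : p ≠ 2
  pgroup : IsPGroup p P
  S_le : S ≤ normalizer (P : Set H)
  F_le : F ≤ P
  F_norm : S ≤ normalizer (F : Set H)
  irr : ∀ Y : Subgroup H, F ≤ Y → Y ≤ P → S ≤ normalizer (Y : Set H) → Y = F ∨ Y = P
  card : Nat.card P = p ^ 2 * Nat.card F
  F_card : Nat.card F ∣ p
  comm : ⁅P, P⁆ ≤ F
  pow : ∀ x ∈ P, x ^ p ∈ F
  ngen : ∀ Y : Subgroup H, Y ≤ P → Y ⊔ F = P → Y = P
  cent : F ≤ centralizer (P : Set H)

variable {p : ℕ} {P S F : Subgroup H}

theorem mem_normalizer_of_conj [Finite H] {Y : Subgroup H} {s : H} (h : ∀ y ∈ Y, s * y * s⁻¹ ∈ Y) :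
    s ∈ normalizer (Y : Set H) := by
  have h4 : Y.map (MulAut.conj s).toMonoidHom = Y := by
    apply eq_of_le_of_card_ge
    · rintro _ ⟨y, hy, rfl⟩
      exact h y hy
    · exact (Nat.card_congr (equivMapOfInjective _ (MulAut.conj s).toMonoidHom (MulAut.conj s).injective).toEquiv).le
  rw [mem_normalizer_iff]
  intro x
  refine ⟨h x, fun hx => ?_⟩
  rw [← h4] at hx
  obtain ⟨y, hy, hyx⟩ := hx
  have h5 : s * y * s⁻¹ = s * x * s⁻¹ := hyx
  have h6 : y = x := mul_left_cancel (mul_right_cancel h5)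
  rwa [← h6]

/-- normalising a join -/
theorem mem_normalizer_sup {A B : Subgroup H} {s : H} (hA : s ∈ normalizer (A : Set H))
    (hB : s ∈ normalizer (B : Set H)) : s ∈ normalizer ((A ⊔ B : Subgroup H) : Set H) := by
  have key : ∀ t : H, t ∈ normalizer (A : Set H) → t ∈ normalizer (B : Set H) → ∀ x ∈ A ⊔ B, t * x * t⁻¹ ∈ A ⊔ B := by
    intro t ht1 ht2
    have h1 : A ⊔ B ≤ (A ⊔ B).comap (MulAut.conj t).toMonoidHom := by
      apply sup_le
      · intro a ha
        exact mem_sup_left ((mem_normalizer_iff.1 ht1 a).1 ha)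
      · intro b hb
        exact mem_sup_right ((mem_normalizer_iff.1 ht2 b).1 hb)
    intro x hx
    exact h1 hx
  rw [mem_normalizer_iff]
  intro x
  refine ⟨key s hA hB x, fun hx => ?_⟩
  have h2 := key s⁻¹ (inv_mem hA) (inv_mem hB) _ hx
  have h3 : s⁻¹ * (s * x * s⁻¹) * s⁻¹⁻¹ = x := by group
  rwa [h3] at h2

namespace Dat

theorem ne_top_zpowers [Finite H] (D : Dat p P S F) {g : H} (hg : g ∈ P) : zpowers g ⊔ F ≠ P := by
  intro h
  have h1 := D.ngen (zpowers g) ((zpowers_le).2 hg) h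
  have h2 : g ^ p ∈ F := D.pow g hg
  have h3 : Nat.card P = orderOf g := by rw [← h1, Nat.card_zpowers]
  -- the order of `g` divides `p * |F|`
  have h4 : g ^ (p * Nat.card F) = 1 := by
    rw [pow_mul]
    have h5 : (⟨g ^ p, h2⟩ : F) ^ Nat.card F = 1 := pow_card_eq_one'
    exact congrArg Subtype.val h5
  have h5 : orderOf g ∣ p * Nat.card F := orderOf_dvd_of_pow_eq_one h4
  have h6 : 0 < Nat.card F := Nat.card_pos
  have h7 := Nat.le_of_dvd (Nat.mul_pos D.prime.pos h6) h5
  rw [← h3, D.card] at h7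
  have h8 : p ^ 2 ≤ p := Nat.le_of_mul_le_mul_right h7 h6
  have := D.prime.one_lt
  nlinarith

theorem exists_not_mem [Finite H] (D : Dat p P S F) : ∃ x ∈ P, x ∉ F := by
  by_contra hcon
  push Not at hcon
  have h1 : P = F := le_antisymm hcon D.F_le
  have h2 := D.card
  rw [← h1] at h2
  have h3 : 0 < Nat.card P := Nat.card_pos
  have h4 : p ^ 2 = 1 := by
    have : 1 * Nat.card P = p ^ 2 * Nat.card P := by rw [one_mul]; exact h2
    exact (Nat.eq_of_mul_eq_mul_right h3 this).symm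
  have := D.prime.one_lt
  nlinarith

theorem star [Finite H] (D : Dat p P S F) : Star P S := by
  intro P₀ hP₀ hn hS g hg hle
  have h1 := D.irr (P₀ ⊔ F) le_sup_right (sup_le hP₀ D.F_le) (fun s hs => mem_normalizer_sup (hS hs) (D.F_norm hs))
  rcases h1 with h1 | h1
  · exfalso
    have h2 : P₀ ≤ F := by rw [← h1]; exact le_sup_left
    apply D.ne_top_zpowers hg
    apply le_antisymm (sup_le ((zpowers_le).2 hg) D.F_le)
    refine hle.trans (sup_le (h2.trans le_sup_right) le_sup_left)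
  · exact D.ngen P₀ hP₀ h1

theorem F_central (D : Dat p P S F) {x y : H} (hx : x ∈ F) (hy : y ∈ P) : x * y = y * x :=
  ((mem_centralizer_iff.1 (D.cent hx)) y hy).symm

theorem F_pow (D : Dat p P S F) {x : H} (hx : x ∈ F) : x ^ p = 1 := by
  have h5 : (⟨x, hx⟩ : F) ^ Nat.card F = 1 := pow_card_eq_one'
  obtain ⟨k, hk⟩ := D.F_card
  have h6 : x ^ Nat.card F = 1 := congrArg Subtype.val h5
  rw [hk, pow_mul, h6, one_pow]

/-- the `p`-th power map is multiplicative on `P` -/
theorem mul_pow (D : Dat p P S F) {x y : H} (hx : x ∈ P) (hy : y ∈ P) : (x * y) ^ p = x ^ p * y ^ p := by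
  set z : H := ⁅y, x⁆ with hz
  have hzF : z ∈ F := D.comm (commutator_mem_commutator hy hx)
  have hyx : y * x = z * (x * y) := by rw [hz, commutatorElement_def]; group
  have hzx : z * x = x * z := D.F_central hzF hx
  have hzy : z * y = y * z := D.F_central hzF hy
  -- `y ^ n * x = z ^ n * x * y ^ n`
  have hzyn : ∀ n : ℕ, z * y ^ n = y ^ n * z := fun n => ((show Commute z y from hzy).pow_right n).eq
  have h1 : ∀ n : ℕ, y ^ n * x = z ^ n * (x * y ^ n) := by
    intro n
    induction n with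
    | zero => simp
    | succ n ih =>
      calc y ^ (n + 1) * x = y ^ n * (y * x) := by rw [pow_succ, mul_assoc]
        _ = y ^ n * (z * (x * y)) := by rw [hyx]
        _ = z * (y ^ n * x) * y := by rw [← mul_assoc, ← hzyn, mul_assoc, mul_assoc, ← mul_assoc (y ^ n)]
        _ = z * (z ^ n * (x * y ^ n)) * y := by rw [ih]
        _ = z ^ (n + 1) * (x * y ^ (n + 1)) := by rw [pow_succ', pow_succ]; group
  have hzxn : ∀ n k : ℕ, z ^ k * x ^ n = x ^ n * z ^ k := fun n k =>
    (((show Commute z x from hzx).pow_right n).pow_left k).eq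
  have h2 : ∀ n : ℕ, (x * y) ^ n = z ^ (n * (n - 1) / 2) * (x ^ n * y ^ n) := by
    intro n
    induction n with
    | zero => simp
    | succ n ih =>
      have h3 : (n + 1) * (n + 1 - 1) / 2 = n * (n - 1) / 2 + n := by
        rw [Nat.add_sub_cancel]
        have h4 : (n + 1) * n = n * (n - 1) + 2 * n := by
          cases n with
          | zero => simp
          | succ m => rw [Nat.add_sub_cancel]; ring
        rw [h4, Nat.add_mul_div_left _ _ two_pos]
      calc (x * y) ^ (n + 1) = (x * y) ^ n * (x * y) := pow_succ _ _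
        _ = z ^ (n * (n - 1) / 2) * (x ^ n * y ^ n) * (x * y) := by rw [ih]
        _ = z ^ (n * (n - 1) / 2) * (x ^ n * (y ^ n * x) * y) := by group
        _ = z ^ (n * (n - 1) / 2) * (x ^ n * (z ^ n * (x * y ^ n)) * y) := by rw [h1]
        _ = z ^ (n * (n - 1) / 2) * ((x ^ n * z ^ n) * x * y ^ n * y) := by group
        _ = z ^ (n * (n - 1) / 2) * ((z ^ n * x ^ n) * x * y ^ n * y) := by rw [hzxn]
        _ = z ^ (n * (n - 1) / 2 + n) * (x ^ (n + 1) * y ^ (n + 1)) := by
            rw [pow_add, pow_succ, pow_succ]; group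
        _ = _ := by rw [h3]
  rw [h2 p]
  have h3 : z ^ (p * (p - 1) / 2) = 1 := by
    have h4 : p * (p - 1) / 2 = p * ((p - 1) / 2) := by
      apply Nat.mul_div_assoc
      rcases D.prime.eq_two_or_odd with h | h
      · exact absurd h D.odd
      · omega
    rw [h4, pow_mul, D.F_pow hzF, one_pow]
  rw [h3, one_mul]

/-- `P` has exponent `p`. -/
theorem pow_eq_one [Finite H] (D : Dat p P S F) : ∀ x ∈ P, x ^ p = 1 := by
  -- the elements of order dividing `p`
  let Ω : Subgroup H :=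
    { carrier := {x | x ∈ P ∧ x ^ p = 1}
      mul_mem' := fun {a b} ha hb => ⟨P.mul_mem ha.1 hb.1, by rw [D.mul_pow ha.1 hb.1, ha.2, hb.2, one_mul]⟩
      one_mem' := ⟨P.one_mem, one_pow _⟩
      inv_mem' := fun {a} ha => ⟨P.inv_mem ha.1, by rw [inv_pow, ha.2, inv_one]⟩ }
  have hΩ : ∀ x : H, x ∈ Ω ↔ x ∈ P ∧ x ^ p = 1 := fun x => Iff.rfl
  have h1 : Ω = F ∨ Ω = P := by
    apply D.irr
    · intro x hx
      exact ⟨D.F_le hx, D.F_pow hx⟩
    · intro x hx
      exact hx.1
    · intro s hs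
      have key : ∀ t ∈ normalizer (P : Set H), ∀ x ∈ Ω, t * x * t⁻¹ ∈ Ω := by
        intro t ht x hx
        refine ⟨(mem_normalizer_iff.1 ht x).1 hx.1, ?_⟩
        rw [conj_pow, hx.2, mul_one, mul_inv_cancel]
      exact mem_normalizer_of_conj (key s (D.S_le hs))
  rcases h1 with h1 | h1
  · exfalso
    -- `P / Ω` embeds in `F`
    let f : P →* F :=
      { toFun := fun x => ⟨x ^ p, D.pow x x.2⟩
        map_one' := Subtype.ext (one_pow p)
        map_mul' := fun x y => Subtype.ext (D.mul_pow x.2 y.2) }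
    have h2 : Nat.card f.range * Nat.card f.ker = Nat.card P := by
      rw [mul_comm, ← Subgroup.index_ker, mul_comm]
      rw [mul_comm]
      exact card_mul_index f.ker
    have h3 : Nat.card f.ker = Nat.card F := by
      have h4 : f.ker.map P.subtype = F := by
        refine Eq.trans ?_ h1
        ext x
        constructor
        · rintro ⟨y, hy, rfl⟩
          exact ⟨y.2, congrArg Subtype.val (MonoidHom.mem_ker.1 hy)⟩
        · rintro ⟨hx, hx1⟩
          exact ⟨⟨x, hx⟩, MonoidHom.mem_ker.2 (Subtype.ext hx1), rfl⟩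
      exact (Nat.card_congr (equivMapOfInjective f.ker P.subtype P.subtype_injective).toEquiv).trans
        (congrArg (fun K : Subgroup H => Nat.card K) h4)
    have h4 : Nat.card f.range ≤ Nat.card F := Nat.card_le_card_of_injective _ Subtype.val_injective
    have h5 : 0 < Nat.card F := Nat.card_pos
    have h6 : Nat.card F ≤ p := Nat.le_of_dvd D.prime.pos D.F_card
    rw [h3, D.card] at h2
    have h7 : Nat.card f.range = p ^ 2 := Nat.eq_of_mul_eq_mul_right h5 h2
    have := D.prime.one_lt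
    nlinarith
  · intro x hx
    rw [← h1] at hx
    exact hx.2

/-- Every subgroup between `F` and `P` which is a `⟨y⟩ F` is `F`, if invariant. -/
theorem mem_F_of_invariant [Finite H] (D : Dat p P S F) {y : H} (hy : y ∈ P)
    (h : ∀ s ∈ S, s * y * s⁻¹ ∈ zpowers y ⊔ F) : y ∈ F := by
  have h1 := D.irr (zpowers y ⊔ F) le_sup_right (sup_le ((zpowers_le).2 hy) D.F_le) ?_
  · rcases h1 with h1 | h1
    · rw [← h1]
      exact mem_sup_left (mem_zpowers y)
    · exact absurd h1 (D.ne_top_zpowers hy)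
  · intro s hs
    apply mem_normalizer_of_conj
    have h2 : zpowers y ⊔ F ≤ (zpowers y ⊔ F).comap (MulAut.conj s).toMonoidHom := by
      apply sup_le
      · rw [zpowers_le]
        exact h s hs
      · intro b hb
        exact mem_sup_right ((mem_normalizer_iff.1 (D.F_norm hs) b).1 hb)
    intro x hx
    exact h2 hx

/-- `P = [P, S₁]` for a subgroup `S₁` of index at most two in `S`. -/
theorem le_commutator [Finite H] (D : Dat p P S F) {S₁ : Subgroup H} (hle : S₁ ≤ S)
    (hn : S ≤ normalizer (S₁ : Set H)) (hi : ∀ s ∈ S, ∀ t ∈ S, s ∉ S₁ → t ∉ S₁ → s * t ∈ S₁) : P ≤ ⁅P, S₁⁆ := by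
  have hcP : ⁅P, S₁⁆ ≤ P := by
    rw [commutator_le]
    intro x hx s hs
    rw [commutatorElement_def]
    have h1 : s * x⁻¹ * s⁻¹ ∈ P := (mem_normalizer_iff.1 (D.S_le (hle hs)) _).1 (P.inv_mem hx)
    have h2 : x * s * x⁻¹ * s⁻¹ = x * (s * x⁻¹ * s⁻¹) := by group
    rw [h2]
    exact P.mul_mem hx h1
  have h1 := D.irr (⁅P, S₁⁆ ⊔ F) le_sup_right (sup_le hcP D.F_le) (by
    intro s hs
    apply mem_normalizer_sup ?_ (D.F_norm hs)
    apply mem_normalizer_of_conj
    have h2 : ⁅P, S₁⁆ ≤ (⁅P, S₁⁆).comap (MulAut.conj s).toMonoidHom := by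
      rw [commutator_le]
      intro x hx t ht
      change s * ⁅x, t⁆ * s⁻¹ ∈ ⁅P, S₁⁆
      have h3 : s * ⁅x, t⁆ * s⁻¹ = ⁅s * x * s⁻¹, s * t * s⁻¹⁆ := by
        rw [commutatorElement_def, commutatorElement_def]; group
      rw [h3]
      exact commutator_mem_commutator ((mem_normalizer_iff.1 (D.S_le hs) x).1 hx) ((mem_normalizer_iff.1 (hn hs) t).1 ht)
    intro x hx
    exact h2 hx)
  rcases h1 with h1 | h1
  · exfalso
    have hS₁F : ∀ x ∈ P, ∀ s ∈ S₁, s * x * s⁻¹ * x⁻¹ ∈ F := by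
      intro x hx s hs
      have h2 : ⁅x, s⁆ ∈ F := by
        rw [← h1]
        exact mem_sup_left (commutator_mem_commutator hx hs)
      have h3 : s * x * s⁻¹ * x⁻¹ = ⁅x, s⁆⁻¹ := by rw [commutatorElement_def]; group
      rw [h3]
      exact F.inv_mem h2
    have hcommF : ∀ x ∈ P, ∀ y ∈ P, x * y * x⁻¹ * y⁻¹ ∈ F := fun x hx y hy =>
      D.comm (commutator_mem_commutator hx hy)
    -- for `s ∈ S \ S₁`, all products `x (s x s⁻¹)` lie in `F`
    have key : ∀ s ∈ S, s ∉ S₁ → ∀ x ∈ P, x * (s * x * s⁻¹) ∈ F := by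
      intro s hs hs1 x hx
      have hsx : s * x * s⁻¹ ∈ P := (mem_normalizer_iff.1 (D.S_le hs) x).1 hx
      set y : H := x * (s * x * s⁻¹) with hy
      have hyP : y ∈ P := P.mul_mem hx hsx
      apply D.mem_F_of_invariant hyP
      intro t ht
      by_cases ht1 : t ∈ S₁
      · have h2 := hS₁F y hyP t ht1
        have h3 : t * y * t⁻¹ = (t * y * t⁻¹ * y⁻¹) * y := by group
        rw [h3]
        exact mul_mem (mem_sup_right h2) (mem_sup_left (mem_zpowers y))
      · -- `t = u s` with `u ∈ S₁`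
        have h2 : t * s ∈ S₁ := hi t ht s hs ht1 hs1
        have h3 : s * s ∈ S₁ := hi s hs s hs hs1 hs1
        have htx : t * x * t⁻¹ ∈ P := (mem_normalizer_iff.1 (D.S_le ht) x).1 hx
        -- `t x t⁻¹ ≡ s x s⁻¹`
        have hu : t * s⁻¹ ∈ S₁ := by
          have : t * s⁻¹ = (t * s) * (s * s)⁻¹ := by group
          rw [this]
          exact S₁.mul_mem h2 (S₁.inv_mem h3)
        have h4 : (t * x * t⁻¹) * (s * x * s⁻¹)⁻¹ ∈ F := by
          have h5 := hS₁F _ hsx _ hu
          have h6 : t * s⁻¹ * (s * x * s⁻¹) * (t * s⁻¹)⁻¹ * (s * x * s⁻¹)⁻¹ =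
              (t * x * t⁻¹) * (s * x * s⁻¹)⁻¹ := by group
          rwa [h6] at h5
        have h5 : ((t * s) * x * (t * s)⁻¹) * x⁻¹ ∈ F := hS₁F x hx _ h2
        -- `t y t⁻¹ = (t x t⁻¹) ((t s) x (t s)⁻¹)`
        set a := t * x * t⁻¹ with ha
        set b := s * x * s⁻¹ with hb
        set c := (t * s) * x * (t * s)⁻¹ with hc
        have h6 : t * y * t⁻¹ = a * c := by
          rw [hy, ha, hc, hb]; group
        have hcP' : c ∈ P := by
          have : c = (c * x⁻¹) * x := by group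
          rw [this]
          exact P.mul_mem (D.F_le h5) hx
        rw [h6]
        -- `a c = (a b⁻¹) b (c x⁻¹) x = f₁ b f₂ x`
        have h7 : a * c = (a * b⁻¹) * (b * (c * x⁻¹) * b⁻¹) * (b * x * b⁻¹ * x⁻¹) * y := by
          rw [hy]
          group
        have h8 : b * x * b⁻¹ * x⁻¹ ∈ F := hcommF b hsx x hx
        have h9 : b * (c * x⁻¹) * b⁻¹ ∈ F := by
          have h10 : b * (c * x⁻¹) * b⁻¹ = c * x⁻¹ := by
            rw [← D.F_central h5 hsx, mul_inv_cancel_right]
          rwa [h10]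
        rw [h7]
        exact mul_mem (mem_sup_right (F.mul_mem (F.mul_mem h4 h9) h8)) (mem_sup_left (mem_zpowers y))
    obtain ⟨x, hx, hxF⟩ := D.exists_not_mem
    apply hxF
    apply D.mem_F_of_invariant hx
    intro s hs
    by_cases hs1 : s ∈ S₁
    · have h2 := hS₁F x hx s hs1
      have h3 : s * x * s⁻¹ = (s * x * s⁻¹ * x⁻¹) * x := by group
      rw [h3]
      exact mul_mem (mem_sup_right h2) (mem_sup_left (mem_zpowers x))
    · have h2 := key s hs hs1 x hx
      have h3 : s * x * s⁻¹ = x⁻¹ * (x * (s * x * s⁻¹)) := by group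
      rw [h3]
      exact mul_mem (mem_sup_left (inv_mem (mem_zpowers x))) (mem_sup_right h2)
  · rw [D.ngen _ hcP h1]

end Dat

end Cfsg.Agent.QTSolv.Data
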