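import Mathlib
import Cfsg.Prelude.Def_Quasithin
import Cfsg.Agent.QTComp.Main
import Cfsg.Agent.QTUniq.Main
import Cfsg.Agent.QTSolv.Build
import Cfsg.Agent.QTSolv.Abs

/-!
# S1822: solvable uniqueness groups, from the odd order theorem
-/

set_option autoImplicit false

open scoped commutatorElement Pointwise

namespace Cfsg.Agent.QTSolv.Main

open Subgroup Cfsg
open Cfsg.Agent.QTComp
open Cfsg.Agent.QTUniq.Local
open Cfsg.Agent.QTSolv.Data

universe u

variable {G : Type u} [Group G] [Finite G]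

/-- elements of odd order of `V = R P` are conjugate in `V` to elements of `P` -/
theorem exists_conj_mem {p : ℕ} (hp : p.Prime) (hp2 : p ≠ 2) {V P R : Subgroup G} (hPV : P ≤ V) (hRV : R ≤ V)
    (hVR : V ≤ normalizer (R : Set G)) (hV : V ≤ R ⊔ P) (hR : IsPGroup 2 R) (hP : IsPGroup p P) {v : G}
    (hv : v ∈ V) (ho : Odd (orderOf v)) : ∃ w ∈ V, w * v * w⁻¹ ∈ P := by
  have hpf : Fact p.Prime := ⟨hp⟩
  have h2f : Fact (Nat.Prime 2) := ⟨Nat.prime_two⟩
  have hPR : P ≤ normalizer (R : Set G) := hPV.trans hVR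
  have hdec : ∀ x ∈ V, ∃ r ∈ R, ∃ y ∈ P, x = r * y := by
    intro x hx
    have h1 := hV hx
    rw [← SetLike.mem_coe, coe_mul_of_right_le_normalizer_left R P hPR] at h1
    obtain ⟨r, hr, y, hy, hry⟩ := h1
    exact ⟨r, hr, y, hy, hry.symm⟩
  -- the Sylow subgroup
  obtain ⟨W, hW⟩ := (hP.comap_of_injective V.subtype V.subtype_injective).exists_le_sylow
  have hWP : ∀ w ∈ (W : Subgroup V), (w : G) ∈ P := by
    intro w hw
    obtain ⟨r, hr, y, hy, hry⟩ := hdec w w.2
    have h1 : (⟨r, hRV hr⟩ : V) ∈ (W : Subgroup V) := by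
      have h3 : (⟨r, hRV hr⟩ : V) = w * (⟨y, hPV hy⟩ : V)⁻¹ := by
        apply Subtype.ext
        change r = (w : G) * y⁻¹
        rw [hry]; group
      rw [h3]
      exact (W : Subgroup V).mul_mem hw ((W : Subgroup V).inv_mem (hW hy))
    have h3 : Disjoint (W : Subgroup V) (R.subgroupOf V) :=
      IsPGroup.disjoint_of_ne p 2 hp2 _ _ W.isPGroup' (hR.comap_of_injective V.subtype V.subtype_injective)
    have h4 := (disjoint_def.1 h3) h1 hr
    have h5 : r = 1 := congrArg Subtype.val h4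
    rw [hry, h5, one_mul]
    exact hy
  -- `v` is a `p`-element
  have hRn : (R.subgroupOf V).Normal := (normal_subgroupOf_iff_le_normalizer hRV).2 hVR
  obtain ⟨r, hr, y, hy, hry⟩ := hdec v hv
  obtain ⟨k, hk⟩ := hP ⟨y, hy⟩
  have hk' : y ^ p ^ k = 1 := congrArg Subtype.val hk
  have h1 : v ^ p ^ k ∈ R := by
    have h3 : ((⟨v, hv⟩ : V) : ↥V ⧸ R.subgroupOf V) = ((⟨y, hPV hy⟩ : V) : ↥V ⧸ R.subgroupOf V) := by
      rw [eq_comm, QuotientGroup.eq]
      change y⁻¹ * v ∈ R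
      have h4 : y⁻¹ * v = y⁻¹ * r * y⁻¹⁻¹ := by rw [hry]; group
      rw [h4]
      exact (mem_normalizer_iff.1 (inv_mem (hPR hy)) r).1 hr
    have h4 : ((⟨v, hv⟩ : V) : ↥V ⧸ R.subgroupOf V) ^ p ^ k = 1 := by
      rw [h3, ← QuotientGroup.mk_pow, QuotientGroup.eq_one_iff]
      change y ^ p ^ k ∈ R
      rw [hk']
      exact R.one_mem
    rw [← QuotientGroup.mk_pow, QuotientGroup.eq_one_iff] at h4
    exact h4
  have h3 : v ^ p ^ k = 1 := by
    obtain ⟨j, hj⟩ := hR ⟨_, h1⟩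
    have hj' : (v ^ p ^ k) ^ 2 ^ j = 1 := congrArg Subtype.val hj
    have h4 : orderOf (v ^ p ^ k) ∣ 2 ^ j := orderOf_dvd_of_pow_eq_one hj'
    have h5 : orderOf (v ^ p ^ k) ∣ orderOf v := orderOf_pow_dvd _
    have h6 : Nat.Coprime (2 ^ j) (orderOf v) :=
      Nat.Coprime.pow_left j ((Nat.Prime.coprime_iff_not_dvd Nat.prime_two).2 (fun h => by
        have := ho.not_two_dvd_nat
        exact this h))
    have h7 : orderOf (v ^ p ^ k) ∣ 1 := by
      rw [← h6]
      exact Nat.dvd_gcd h4 h5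
    exact orderOf_eq_one_iff.1 (Nat.dvd_one.1 h7)
  have h4 : IsPGroup p (zpowers (⟨v, hv⟩ : V)) := by
    refine IsPGroup.of_card_dvd_pow (n := k) ?_
    rw [Nat.card_zpowers]
    exact orderOf_dvd_of_pow_eq_one (Subtype.ext h3)
  obtain ⟨W', hW'⟩ := h4.exists_le_sylow
  obtain ⟨w, hw⟩ := MulAction.exists_smul_eq V W' W
  refine ⟨w, w.2, ?_⟩
  have h5 : w * (⟨v, hv⟩ : V) * w⁻¹ ∈ (W : Subgroup V) := by
    rw [← hw]
    exact ⟨⟨v, hv⟩, hW' (mem_zpowers _), rfl⟩
  exact hWP _ h5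

/-- `X` is normalised by every overgroup of `X T` with a nontrivial 2-core. -/
theorem le_normalizer (hFT : Quat.FT.{0}) [IsSimpleGroup G] (hG : ¬ IsMulCommutative G) (hQ : IsQuasithin G)
    (hK : IsKProper G) (T : Sylow 2 G) {X : Subgroup G} (hX : X ∈ XiStar (T : Subgroup G)) {M : Subgroup G}
    (hM : M ∈ calH G) (hXM : X ⊔ (T : Subgroup G) ≤ M) : M ≤ normalizer (X : Set G) := by
  have h2f : Fact (Nat.Prime 2) := ⟨Nat.prime_two⟩
  obtain ⟨p, P, S, F, D, hPX, hST, hXOP⟩ := Build.exists_dat hX.1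
  have hp := D.prime
  have hpf : Fact p.Prime := ⟨hp⟩
  have hTX : (T : Subgroup G) ≤ normalizer (X : Set G) := hX.1.2.1
  have hXle : X ≤ M := le_sup_left.trans hXM
  have hTM : (T : Subgroup G) ≤ M := le_sup_right.trans hXM
  have hPM : P ≤ M := hPX.trans hXle
  set R : Subgroup M := pCore 2 ↥M with hR
  have hRn : R.Normal := Lib.Cores.pCore_normal 2
  have hRp : IsPGroup 2 R := Lib.Cores.pCore_isPGroup 2
  set π := QuotientGroup.mk' R with hπ
  have hπs : Function.Surjective π := QuotientGroup.mk'_surjective R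
  obtain ⟨hrM, -⟩ := QTComp.Main.of_calH hG hQ hK hM
  have hr := Two.rank_quot hrM
  have h2 : pCore 2 (↥M ⧸ R) = ⊥ := Lib.Cores.pCore_quotient_pCore 2
  -- the data in `M / R`
  have hmap : ∀ Y : Subgroup G, Y ≤ M → (Y.subgroupOf M).map M.subtype = Y := fun Y hY => by
    rw [subgroupOf_map_subtype, inf_eq_left.2 hY]
  have D₁ : Dat p (P.subgroupOf M) (S.subgroupOf M) (F.subgroupOf M) := by
    refine Build.reflect M.subtype M.subtype_injective ?_
    rw [hmap P hPM, hmap S (hST.trans hTM), hmap F (D.F_le.trans hPM)]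
    exact D
  have D₂ : Dat p ((P.subgroupOf M).map π) ((S.subgroupOf M).map π) ((F.subgroupOf M).map π) := by
    refine Build.map D₁ π ?_
    intro x hx hx1
    have hxR : x ∈ R := (QuotientGroup.eq_one_iff x).1 hx1
    have h3 : Disjoint (P.subgroupOf M) R := IsPGroup.disjoint_of_ne p 2 D.odd _ _ D₁.pgroup hRp
    exact (disjoint_def.1 h3) hx hxR
  let TM : Sylow 2 M := T.subtype hTM
  have hTMc : (TM : Subgroup M) = (T : Subgroup G).subgroupOf M := rfl
  have hRT : R ≤ (TM : Subgroup M) := Lib.Cores.pCore_le_sylow TM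
  -- components
  have hcl : ∀ K : Subgroup (↥M ⧸ R), IsComponent K → ¬ (P.subgroupOf M).map π ≤ normalClosure (K : Set (↥M ⧸ R)) := by
    intro K hK hle
    have hKc := Abs.calC_of_component hK
    -- the Sylow 2-subgroup of the quotient
    obtain ⟨T₂, hT₂⟩ := (TM.isPGroup'.map π).exists_le_sylow
    have hT₂eq : (T₂ : Subgroup (↥M ⧸ R)) = (TM : Subgroup M).map π := by
      apply le_antisymm ?_ hT₂
      -- the preimage of `T₂` is a 2-group
      have h3 : IsPGroup 2 ↥((T₂ : Subgroup (↥M ⧸ R)).comap π) := by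
        apply T₂.isPGroup'.comap_of_ker_isPGroup
        rw [hπ, QuotientGroup.ker_mk']
        exact hRp
      have h4 : (TM : Subgroup M) ≤ (T₂ : Subgroup (↥M ⧸ R)).comap π := by
        rw [← map_le_iff_le_comap]
        exact hT₂
      have h5 := TM.is_maximal' h3 h4
      rw [← h5, map_comap_eq_self_of_surjective hπs]
    have h3 := hle.trans (Abs.normalClosure_le hFT hr hKc T₂)
    rw [hT₂eq] at h3
    -- a `𝒞`-component of `M` above `K`
    have hKs : (K.comap π).IsSubnormal := hK.1.comap π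
    have hKns : ¬ Group.IsSolvable ↥(K.comap π) := by
      intro h
      apply SignalizersComponents.Components.quasisimple_not_isSolvable hK.2
      have h4 : (K.comap π).map π = K := map_comap_eq_self_of_surjective hπs K
      have h5 : Group.IsSolvable ↥((K.comap π).map π) :=
        Group.isSolvable_of_surjective (f := π.subgroupMap (K.comap π)) (π.subgroupMap_surjective _)
      rwa [h4] at h5
    obtain ⟨L, hL, hLK⟩ := Basic.exists_calC_le hKs hKns
    have hLmap : L.map π = K := by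
      have h4 := Two.calC_map (S := R) Two.pCore_solvable hL
      exact Basic.calC_eq_of_le hKc h4.1 h4.2.1 h4.2.2.1 (by rw [map_le_iff_le_comap]; exact hLK)
    obtain ⟨e⟩ := Three.exists_equiv (G := M) hL.2.2.1
    have hLq : IsQuasisimple (↥L ⧸ pCore 2 ↥L) := by
      rw [SignalizersComponents.Components.isQuasisimple_congr e]
      have h4 : L.map (QuotientGroup.mk' (pCore 2 ↥M)) = K := hLmap
      rw [h4]
      exact hK.2
    set L₀ : Subgroup G := L.map M.subtype with hL₀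
    have hL₀M : L₀ ≤ M := map_subtype_le L
    have hL₀s : L₀.subgroupOf M = L := by
      rw [subgroupOf, comap_map_eq_self_of_injective M.subtype_injective]
    have hL₀c : L₀ ∈ calL (T : Subgroup G) :=
      QTUniq.Main.mem_calL T hL₀M hTM hM (by rw [hL₀s]; exact hL)
    have e₀ : ↥L ≃* ↥L₀ := L.equivMapOfInjective M.subtype M.subtype_injective
    have hL₀q : IsQuasisimple (↥L₀ ⧸ pCore 2 ↥L₀) := by
      have e₁ : (↥L ⧸ pCore 2 ↥L) ≃* (↥L₀ ⧸ pCore 2 ↥L₀) :=
        QuotientGroup.congr _ _ e₀ (Lib.Cores.map_equiv_pCore e₀ 2)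
      exact (SignalizersComponents.Components.isQuasisimple_congr e₁).1 hLq
    refine hX.2 L₀ hL₀c hL₀q (sup_le ?_ le_sup_right)
    -- `P ≤ L₀ T`
    have hPL : P ≤ L₀ ⊔ (T : Subgroup G) := by
      intro x hx
      have h4 : π ⟨x, hPM hx⟩ ∈ K ⊔ (TM : Subgroup M).map π := h3 ⟨⟨x, hPM hx⟩, hx, rfl⟩
      rw [← hLmap, ← Subgroup.map_sup] at h4
      obtain ⟨y, hy, hyx⟩ := h4
      have h5 : y⁻¹ * ⟨x, hPM hx⟩ ∈ R := by
        rw [← QuotientGroup.eq]
        exact hyx
      have h6 : (⟨x, hPM hx⟩ : M) ∈ L ⊔ (TM : Subgroup M) := by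
        have h7 : (⟨x, hPM hx⟩ : M) = y * (y⁻¹ * ⟨x, hPM hx⟩) := by group
        rw [h7]
        exact mul_mem hy (mem_sup_right (hRT h5))
      have h8 : x ∈ (L ⊔ (TM : Subgroup M)).map M.subtype := ⟨_, h6, rfl⟩
      rw [Subgroup.map_sup, hTMc, hmap _ hTM] at h8
      exact h8
    exact hXOP.trans (sup_le ((Build.pCore_le hTX).trans le_sup_right) hPL)
  -- `P R` is normal in `M`
  have hn := Abs.normal_of hFT hr h2 D₂ hcl
  set V : Subgroup M := ((P.subgroupOf M).map π).comap π with hV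
  have hVn : V.Normal := inferInstance
  have hVeq : V = R ⊔ P.subgroupOf M := by
    rw [hV, comap_map_eq, hπ, QuotientGroup.ker_mk', sup_comm]
  -- in `G`
  set R₀ : Subgroup G := R.map M.subtype with hR₀
  set V₀ : Subgroup G := V.map M.subtype with hV₀
  have hV₀eq : V₀ = R₀ ⊔ P := by
    rw [hV₀, hVeq, Subgroup.map_sup, hmap P hPM]
  have hMV : ∀ g ∈ M, ∀ x ∈ V₀, g * x * g⁻¹ ∈ V₀ := by
    rintro g hg _ ⟨y, hy, rfl⟩
    exact ⟨⟨g, hg⟩ * y * ⟨g, hg⟩⁻¹, hVn.conj_mem y hy ⟨g, hg⟩, rfl⟩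
  have hMR : M ≤ normalizer (R₀ : Set G) := le_normalizer_map_pCore 2 M
  have hV₀M : V₀ ≤ M := map_subtype_le V
  have hR₀p : IsPGroup 2 R₀ := hRp.map _
  have hR₀T : R₀ ≤ (T : Subgroup G) := by
    rintro _ ⟨y, hy, rfl⟩
    exact hRT hy
  have hPV : P ≤ V₀ := by rw [hV₀eq]; exact le_sup_right
  -- odd elements of `V₀` lie in `X`
  have hodd1 : ∀ v ∈ V₀, Odd (orderOf v) → v ∈ X := by
    intro v hv ho
    obtain ⟨w, hw, hwv⟩ := exists_conj_mem hp D.odd hPV (by rw [hV₀eq]; exact le_sup_left : R₀ ≤ V₀)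
      (hV₀M.trans hMR) hV₀eq.le hR₀p D.pgroup hv ho
    have h3 : w ∈ normalizer (X : Set G) := by
      have h4 : V₀ ≤ normalizer (X : Set G) := by
        rw [hV₀eq]
        exact sup_le (hR₀T.trans hTX) (hPX.trans Subgroup.le_normalizer)
      exact h4 hw
    exact (mem_normalizer_iff.1 h3 v).2 (hPX hwv)
  -- odd elements of `X` lie in `V₀`
  have hodd2 : ∀ v ∈ X, Odd (orderOf v) → v ∈ V₀ := by
    intro v hv ho
    obtain ⟨w, hw, hwv⟩ := exists_conj_mem hp D.odd hPX (map_subtype_le _ : (pCore 2 ↥X).map X.subtype ≤ X)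
      (le_normalizer_map_pCore 2 X) hXOP ((Lib.Cores.pCore_isPGroup 2).map _) D.pgroup hv ho
    have h3 := hMV w⁻¹ (M.inv_mem (hXle hw)) _ (hPV hwv)
    have h4 : w⁻¹ * (w * v * w⁻¹) * w⁻¹⁻¹ = v := by group
    rwa [h4] at h3
  intro g hg
  apply mem_normalizer_of_conj
  have hXgen : oddGenerated X = X := hX.1.1
  have h3 : X ≤ X.comap (MulAut.conj g).toMonoidHom := by
    conv_lhs => rw [← hXgen]
    rw [oddGenerated, closure_le]
    rintro v ⟨hv, ho⟩
    change g * v * g⁻¹ ∈ X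
    apply hodd1 _ (hMV g hg v (hodd2 v hv ho))
    have h4 : orderOf (g * v * g⁻¹) = orderOf v := by
      have := orderOf_injective (MulAut.conj g).toMonoidHom (MulAut.conj g).injective v
      exact this
    rw [h4]
    exact ho
  intro y hy
  exact h3 hy

/-- **S1822** from the odd order theorem. -/
theorem main (hFT : Quat.FT.{0}) [IsSimpleGroup G] (hG : ¬ IsMulCommutative G) (hQ : IsQTKE G) (T : Sylow 2 G)
    (X : Subgroup G) (hX : X ∈ XiStar (T : Subgroup G)) :
    maxTwoLocalsContaining (X ⊔ (T : Subgroup G)) = {normalizer (X : Set G)} := by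
  have h2f : Fact (Nat.Prime 2) := ⟨Nat.prime_two⟩
  have hXT : pCore 2 ↥(X ⊔ (T : Subgroup G)) ≠ ⊥ := hX.1.2.2.1
  have hinv : ∀ M ∈ maxTwoLocalsContaining (X ⊔ (T : Subgroup G)), M ≤ normalizer (X : Set G) := fun M hM =>
    le_normalizer hFT hG hQ.1 hQ.2.1 T hX (pCore_ne_bot_of_twoLocal hM.1.1) hM.2
  refine maxTwoLocals_eq hXT ?_ hinv
  -- `O_2(X) ≠ 1`
  obtain ⟨M, hM⟩ := exists_maxTwoLocal hXT
  have hXM : X ≤ M := le_sup_left.trans hM.2
  have hTM : (T : Subgroup G) ≤ M := le_sup_right.trans hM.2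
  have hMX := hinv M hM
  have h1 := charTwo_of_over hQ.2.2 T hTM (pCore_ne_bot_of_twoLocal hM.1.1)
  have hn : (X.subgroupOf M).Normal := (normal_subgroupOf_iff_le_normalizer hXM).2 hMX
  have h2 := genFitting_of_subnormal h1 hn.isSubnormal
  let e : ↥(X.subgroupOf M) ≃* ↥X := subgroupOfEquivOfLe hXM
  have h3 : generalizedFittingSubgroup ↥X = pCore 2 ↥X := by
    rw [← Lib.GenFitting.map_genFitting e, h2]
    exact Lib.Cores.map_equiv_pCore e 2
  have hXnt : Nontrivial X := by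
    obtain ⟨p, P, S, F, D, hPX, -, -⟩ := Build.exists_dat hX.1
    obtain ⟨x, hx, hxF⟩ := D.exists_not_mem
    refine ⟨⟨x, hPX hx⟩, 1, fun h => hxF ?_⟩
    have h4 : x = 1 := congrArg Subtype.val h
    rw [h4]
    exact F.one_mem
  exact QTUniq.Main.pCore_ne_bot_of_genFitting h3

end Cfsg.Agent.QTSolv.Main
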