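import Mathlib
import Cfsg.Agent.Lib.Cores
import Cfsg.Agent.QTSolv.Rank

/-!
# `P ≤ Q`, `Q` a normal `p`-subgroup of rank at most two: `P = {x ∈ Q : x ^ p = 1}`
-/

set_option autoImplicit false

open scoped commutatorElement Pointwise

namespace Cfsg.Agent.QTSolv.PCore

open Subgroup Cfsg
open Cfsg.Agent.OddOrderLocal
open Cfsg.Agent.OddOrderLocal.Rank (elemAb_zpowers elemAb_sup pRankLE_def elemAb_isPGroup)
open Cfsg.Agent.QTSolv.Star Cfsg.Agent.QTSolv.Data

variable {H : Type*} [Group H] [Finite H] {p : ℕ} {P S F : Subgroup H}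

omit [Finite H] in
theorem conj_zpow {a b c : H} (hab : a * b * a⁻¹ = c * b) (hca : Commute c a) (k : ℤ) :
    a ^ k * b * (a ^ k)⁻¹ = c ^ k * b := by
  induction k using Int.induction_on with
  | zero => simp
  | succ k ih =>
    rw [zpow_add_one, zpow_add_one]
    calc a ^ (k : ℤ) * a * b * (a ^ (k : ℤ) * a)⁻¹ = a ^ (k : ℤ) * (a * b * a⁻¹) * (a ^ (k : ℤ))⁻¹ := by group
      _ = a ^ (k : ℤ) * (c * b) * (a ^ (k : ℤ))⁻¹ := by rw [hab]
      _ = c * (a ^ (k : ℤ) * b * (a ^ (k : ℤ))⁻¹) := by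
          rw [← mul_assoc (a ^ (k : ℤ)) c b, ← (hca.zpow_right k).eq]; group
      _ = c * (c ^ (k : ℤ) * b) := by rw [ih]
      _ = c ^ (k : ℤ) * c * b := by rw [← mul_assoc, (Commute.zpow_self c k).eq]
  | pred k ih =>
    have h6 : a⁻¹ * b * a = c⁻¹ * b := by
      have h8 : a⁻¹ * (c * b) * a = b := by rw [← hab]; group
      have h7 : a⁻¹ * (c * b) * a = c * (a⁻¹ * b * a) := by
        rw [← mul_assoc, ← (hca.inv_right).eq]; group
      rw [h7] at h8
      rw [eq_inv_mul_iff_mul_eq]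
      exact h8
    rw [zpow_sub_one, zpow_sub_one]
    calc a ^ (-(k : ℤ)) * a⁻¹ * b * (a ^ (-(k : ℤ)) * a⁻¹)⁻¹ =
        a ^ (-(k : ℤ)) * (a⁻¹ * b * a) * (a ^ (-(k : ℤ)))⁻¹ := by group
      _ = a ^ (-(k : ℤ)) * (c⁻¹ * b) * (a ^ (-(k : ℤ)))⁻¹ := by rw [h6]
      _ = c⁻¹ * (a ^ (-(k : ℤ)) * b * (a ^ (-(k : ℤ)))⁻¹) := by
          rw [← mul_assoc (a ^ (-(k : ℤ))) c⁻¹ b, ← (hca.inv_left.zpow_right (-(k : ℤ))).eq]; group
      _ = c⁻¹ * (c ^ (-(k : ℤ)) * b) := by rw [ih]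
      _ = c ^ (-(k : ℤ)) * c⁻¹ * b := by
          rw [← mul_assoc, ((Commute.refl c).inv_left.zpow_right (-(k : ℤ))).eq]

omit [Finite H] in
theorem F_elemAb (D : Dat p P S F) : IsElementaryAbelian p F :=
  ⟨⟨⟨fun a b => Subtype.ext (D.F_central a.2 (D.F_le b.2))⟩⟩, fun _ ha => D.F_pow ha⟩

/-- `⟨a⟩ F` is elementary abelian. -/
theorem elemAb_of (D : Dat p P S F) {a : H} (ha : a ∈ P) : IsElementaryAbelian p (F ⊔ zpowers a : Subgroup H) := by
  refine elemAb_sup (F_elemAb D) (elemAb_zpowers (D.pow_eq_one a ha)) ?_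
  rintro b hb _ ⟨i, rfl⟩
  exact (show Commute b a from D.F_central hb ha).zpow_right i

theorem card_of (D : Dat p P S F) (hF : Nat.card F = p) {a : H} (ha : a ∈ P) (haF : a ∉ F) (hr : PRankLE p 2 H) :
    Nat.card (F ⊔ zpowers a : Subgroup H) = p ^ 2 := by
  have hpf : Fact p.Prime := ⟨D.prime⟩
  refine le_antisymm (pRankLE_def.mp hr _ (elemAb_of D ha)) ?_
  have hlt : F < F ⊔ zpowers a := by
    refine lt_of_le_of_ne le_sup_left fun h => haF ?_
    rw [h]
    exact mem_sup_right (mem_zpowers a)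
  have hEp : IsPGroup p ↥(F ⊔ zpowers a : Subgroup H) := elemAb_isPGroup (elemAb_of D ha)
  obtain ⟨k, hk⟩ := IsPGroup.iff_card.1 hEp
  have h4 : Nat.card F < Nat.card ↥(F ⊔ zpowers a : Subgroup H) := by
    refine lt_of_le_of_ne (card_le_of_le hlt.le) fun h => hlt.ne (eq_of_le_of_card_ge hlt.le h.ge)
  rw [hk, hF] at h4
  rw [hk]
  apply Nat.pow_le_pow_right D.prime.pos
  by_contra hk2
  push Not at hk2
  have : p ^ k ≤ p ^ 1 := Nat.pow_le_pow_right D.prime.pos (by omega)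
  rw [pow_one] at this
  omega

theorem mem_of_commute (D : Dat p P S F) (hF : Nat.card F = p) {a : H} (ha : a ∈ P) (haF : a ∉ F)
    (hr : PRankLE p 2 H) {x : H} (hx : x ^ p = 1) (hxa : a * x = x * a) (hxF : ∀ f ∈ F, f * x = x * f) :
    x ∈ F ⊔ zpowers a := by
  have hpf : Fact p.Prime := ⟨D.prime⟩
  refine RankTwoPrimeAut.mem_of_commute hr _ (elemAb_of D ha) (card_of D hF ha haF hr) hx ?_
  have h1 : F ⊔ zpowers a ≤ centralizer ({x} : Set H) := by
    refine sup_le ?_ ?_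
    · intro f hf
      rw [mem_centralizer_singleton_iff]
      exact hxF f hf
    · rw [zpowers_le, mem_centralizer_singleton_iff]
      exact hxa
  intro m hm
  have h2 := h1 hm
  rwa [mem_centralizer_singleton_iff] at h2

/-- the elements of order dividing `p` of the centre of `Q` -/
def omegaZ (p : ℕ) (Q : Subgroup H) : Subgroup H where
  carrier := {x | x ∈ Q ∧ x ^ p = 1 ∧ ∀ y ∈ Q, y * x = x * y}
  one_mem' := ⟨Q.one_mem, one_pow _, fun y _ => by rw [mul_one, one_mul]⟩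
  mul_mem' := by
    rintro a b ⟨ha, ha1, ha2⟩ ⟨hb, hb1, hb2⟩
    refine ⟨Q.mul_mem ha hb, ?_, fun y hy => ?_⟩
    · have h : Commute a b := hb2 a ha
      rw [h.mul_pow, ha1, hb1, one_mul]
    · exact ((show Commute y a from ha2 y hy).mul_right (show Commute y b from hb2 y hy)).eq
  inv_mem' := by
    rintro a ⟨ha, ha1, ha2⟩
    refine ⟨Q.inv_mem ha, by rw [inv_pow, ha1, inv_one], fun y hy => ?_⟩
    exact ((show Commute y a from ha2 y hy).inv_right).eq

omit [Finite H] in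
theorem mem_omegaZ {Q : Subgroup H} {x : H} : x ∈ omegaZ p Q ↔ x ∈ Q ∧ x ^ p = 1 ∧ ∀ y ∈ Q, y * x = x * y := Iff.rfl

theorem omegaZ_normalizer {Q : Subgroup H} (hQn : Q.Normal) (s : H) : s ∈ normalizer (omegaZ p Q : Set H) := by
  apply mem_normalizer_of_conj
  rintro x ⟨hx, hx1, hx2⟩
  refine ⟨hQn.conj_mem x hx s, ?_, fun y hy => ?_⟩
  · rw [conj_pow, hx1, mul_one, mul_inv_cancel]
  · have h1 : s⁻¹ * y * s ∈ Q := by
      have := hQn.conj_mem y hy s⁻¹
      rwa [inv_inv] at this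
    have h2 := hx2 _ h1
    calc y * (s * x * s⁻¹) = s * ((s⁻¹ * y * s) * x) * s⁻¹ := by group
      _ = s * (x * (s⁻¹ * y * s)) * s⁻¹ := by rw [h2]
      _ = s * x * s⁻¹ * y := by group

theorem omegaZ_ne_bot {Q : Subgroup H} (hp : p.Prime) (hQp : IsPGroup p Q) (hQ : Q ≠ ⊥) : omegaZ p Q ≠ ⊥ := by
  have hpf : Fact p.Prime := ⟨hp⟩
  obtain ⟨z, hz, hz1, hzp, hzW⟩ := Rank.exists_central (N := Q) hQp (by rw [subgroupOf_self]; infer_instance)
    (by rw [inf_idem]; exact hQ)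
  intro h
  have h1 : z ∈ omegaZ p Q := ⟨hz.1, hzp, hzW⟩
  rw [h, mem_bot] at h1
  exact hz1 h1

theorem P_ne_bot (D : Dat p P S F) : P ≠ ⊥ := by
  obtain ⟨x, hx, hxF⟩ := D.exists_not_mem
  intro h
  rw [h, mem_bot] at hx
  rw [hx] at hxF
  exact hxF F.one_mem

/-- `|F| = 1` -/
theorem mem_of_pow_one (D : Dat p P S F) (hF : Nat.card F = 1) (hr : PRankLE p 2 H) {Q : Subgroup H} (hQn : Q.Normal)
    (hQp : IsPGroup p Q) (hPQ : P ≤ Q) : ∀ x ∈ Q, x ^ p = 1 → x ∈ P := by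
  have hpf : Fact p.Prime := ⟨D.prime⟩
  have hFb : F = ⊥ := card_eq_one.1 hF
  have hPc : Nat.card P = p ^ 2 := by rw [D.card, hF, mul_one]
  have hPe : IsElementaryAbelian p P := by
    refine ⟨⟨⟨fun a b => ?_⟩⟩, D.pow_eq_one⟩
    have h1 := D.comm (commutator_mem_commutator a.2 b.2)
    rw [hFb, mem_bot, commutatorElement_eq_one_iff_mul_comm] at h1
    exact Subtype.ext h1
  have hQ : Q ≠ ⊥ := fun h => P_ne_bot D (by rw [h] at hPQ; exact le_bot_iff.1 hPQ)
  have h1 : omegaZ p Q ≤ P := by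
    intro x hx
    exact RankTwoPrimeAut.mem_of_commute hr P hPe hPc hx.2.1 (fun m hm => hx.2.2 m (hPQ hm))
  have h2 : omegaZ p Q = P := by
    rcases D.irr (omegaZ p Q) (by rw [hFb]; exact bot_le) h1 (fun s _ => omegaZ_normalizer hQn s) with h | h
    · exact absurd (h.trans hFb) (omegaZ_ne_bot D.prime hQp hQ)
    · exact h
  intro x hx hxp
  refine RankTwoPrimeAut.mem_of_commute hr P hPe hPc hxp (fun m hm => ?_)
  rw [← h2] at hm
  exact (hm.2.2 x hx).symm

/-- `|F| = p` -/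
theorem mem_of_pow_prime (D : Dat p P S F) (hF : Nat.card F = p) (hr : PRankLE p 2 H) {Q : Subgroup H}
    (hQn : Q.Normal) (hQp : IsPGroup p Q) (hPQ : P ≤ Q) : ∀ x ∈ Q, x ^ p = 1 → x ∈ P := by
  have hpf : Fact p.Prime := ⟨D.prime⟩
  have hPc : Nat.card P = p ^ 3 := by rw [D.card, hF]; ring
  have hQ : Q ≠ ⊥ := fun h => P_ne_bot D (by rw [h] at hPQ; exact le_bot_iff.1 hPQ)
  -- `P` is not abelian
  have hPna : ¬ IsMulCommutative P := by
    intro h
    have h1 := pRankLE_def.mp hr P ⟨h, D.pow_eq_one⟩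
    rw [hPc] at h1
    have := (Nat.pow_le_pow_iff_right D.prime.one_lt).1 h1
    omega
  obtain ⟨a₀, ha₀, ha₀F⟩ := D.exists_not_mem
  have h1 : omegaZ p Q ≤ P := by
    intro x hx
    have h2 := mem_of_commute D hF ha₀ ha₀F hr hx.2.1 (hx.2.2 a₀ (hPQ ha₀)) (fun f hf => hx.2.2 f (hPQ (D.F_le hf)))
    exact (sup_le D.F_le ((zpowers_le).2 ha₀) : F ⊔ zpowers a₀ ≤ P) h2
  have h2 : omegaZ p Q ≤ F := by
    rcases D.irr (omegaZ p Q ⊔ F) le_sup_right (sup_le h1 D.F_le)
      (fun s hs => mem_normalizer_sup (omegaZ_normalizer hQn s) (D.F_norm hs)) with h | h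
    · rw [← h]
      exact le_sup_left
    · exfalso
      apply hPna
      have h3 := D.ngen _ h1 h
      refine ⟨⟨fun a b => Subtype.ext ?_⟩⟩
      have hb : (b : H) ∈ omegaZ p Q := by rw [h3]; exact b.2
      exact hb.2.2 a (hPQ a.2)
  have hFZ : omegaZ p Q = F := by
    apply eq_of_le_of_card_ge h2
    have h3 : IsPGroup p (omegaZ p Q) := hQp.to_le (fun x hx => hx.1)
    have : Nontrivial (omegaZ p Q) := (nontrivial_iff_ne_bot _).2 (omegaZ_ne_bot D.prime hQp hQ)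
    obtain ⟨k, hk0, hk⟩ := h3.nontrivial_iff_card.1 this
    rw [hF, hk]
    exact Nat.le_self_pow hk0.ne' p
  have hFQ : ∀ f ∈ F, ∀ y ∈ Q, y * f = f * y := by
    intro f hf
    rw [← hFZ] at hf
    exact hf.2.2
  -- the normaliser of `P` in `Q`
  set N : Subgroup H := Q ⊓ normalizer (P : Set H) with hN
  have hNQ : N ≤ Q := inf_le_left
  have hNp : IsPGroup p N := hQp.to_le hNQ
  have hPN : P ≤ N := le_inf hPQ le_normalizer
  have hNS : ∀ s ∈ S, s ∈ normalizer (N : Set H) := by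
    intro s hs
    apply mem_normalizer_of_conj
    intro y hy
    refine ⟨hQn.conj_mem y hy.1 s, ?_⟩
    exact (normalizer (P : Set H)).mul_mem ((normalizer (P : Set H)).mul_mem (D.S_le hs) hy.2)
      ((normalizer (P : Set H)).inv_mem (D.S_le hs))
  -- `[N, P] ≤ F`
  let Y : Subgroup H :=
    { carrier := {y | y ∈ P ∧ ∀ n ∈ N, n * y * n⁻¹ * y⁻¹ ∈ F}
      one_mem' := ⟨P.one_mem, fun n _ => by simp⟩
      mul_mem' := by
        rintro a b ⟨ha, ha2⟩ ⟨hb, hb2⟩
        refine ⟨P.mul_mem ha hb, fun n hn => ?_⟩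
        have h3 : n * (a * b) * n⁻¹ * (a * b)⁻¹ = (n * a * n⁻¹ * a⁻¹) * (a * (n * b * n⁻¹ * b⁻¹) * a⁻¹) := by group
        rw [h3, hFQ _ (hb2 n hn) a (hPQ ha), mul_inv_cancel_right]
        exact F.mul_mem (ha2 n hn) (hb2 n hn)
      inv_mem' := by
        rintro a ⟨ha, ha2⟩
        refine ⟨P.inv_mem ha, fun n hn => ?_⟩
        have h3 : n * a⁻¹ * n⁻¹ * a⁻¹⁻¹ = a⁻¹ * (n * a * n⁻¹ * a⁻¹)⁻¹ * a := by group
        rw [h3, hFQ _ (F.inv_mem (ha2 n hn)) a⁻¹ (hPQ (P.inv_mem ha)), inv_mul_cancel_right]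
        exact F.inv_mem (ha2 n hn) }
  have hYP : Y = P := by
    have h3 : F ≤ Y := by
      intro f hf
      refine ⟨D.F_le hf, fun n hn => ?_⟩
      rw [hFQ f hf n (hNQ hn), mul_inv_cancel_right, mul_inv_cancel]
      exact F.one_mem
    rcases D.irr Y h3 (fun y hy => hy.1) (fun s hs => by
      apply mem_normalizer_of_conj
      rintro y ⟨hy, hy2⟩
      refine ⟨(mem_normalizer_iff.1 (D.S_le hs) y).1 hy, fun n hn => ?_⟩
      have h4 : s⁻¹ * n * s ∈ N := by
        have := (mem_normalizer_iff.1 (inv_mem (hNS s hs)) n).1 hn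
        rwa [inv_inv] at this
      have h5 := (mem_normalizer_iff.1 (D.F_norm hs) _).1 (hy2 _ h4)
      have h6 : n * (s * y * s⁻¹) * n⁻¹ * (s * y * s⁻¹)⁻¹ =
          s * (s⁻¹ * n * s * y * (s⁻¹ * n * s)⁻¹ * y⁻¹) * s⁻¹ := by group
      rw [h6]
      exact h5) with h4 | h4
    · exfalso
      -- fixed points
      have hFN : (F.subgroupOf N).Normal := by
        constructor
        intro f hf n
        have h5 := hFQ f hf n (hNQ n.2)
        have h6 : ((n * f * n⁻¹ : N) : H) = f := by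
          change (n : H) * f * (n : H)⁻¹ = f
          rw [h5, mul_inv_cancel_right]
        change ((n * f * n⁻¹ : N) : H) ∈ F
        rw [h6]
        exact hf
      have hPNn : (P.subgroupOf N).Normal := (normal_subgroupOf_iff_le_normalizer hPN).2 inf_le_right
      set π := QuotientGroup.mk' (F.subgroupOf N) with hπ
      have : Group.IsNilpotent (↥N ⧸ F.subgroupOf N) := (hNp.to_quotient _).isNilpotent
      have h5 : ((P.subgroupOf N).map π).Normal := hPNn.map π (QuotientGroup.mk'_surjective _)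
      have h6 : (P.subgroupOf N).map π ≠ ⊥ := by
        intro h
        rw [Subgroup.map_eq_bot_iff, hπ, QuotientGroup.ker_mk'] at h
        exact ha₀F (h (show (⟨a₀, hPN ha₀⟩ : N) ∈ P.subgroupOf N from ha₀))
      have h7 := Lib.NormalAbelian.normal_inf_center_ne_bot _ h6
      have hnt : Nontrivial ↥((P.subgroupOf N).map π ⊓ center (↥N ⧸ F.subgroupOf N)) := (nontrivial_iff_ne_bot _).2 h7
      obtain ⟨w, hw1⟩ := exists_ne (1 : ↥((P.subgroupOf N).map π ⊓ center (↥N ⧸ F.subgroupOf N)))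
      obtain ⟨⟨y, hyP, hyw⟩, hyc⟩ := w.2
      rw [← hyw] at hyc
      have h8 : (y : H) ∉ F := by
        intro h
        apply hw1
        apply Subtype.ext
        rw [← hyw]
        exact (QuotientGroup.eq_one_iff y).2 h
      apply h8
      rw [← h4]
      refine ⟨hyP, fun n hn => ?_⟩
      have h9 := (mem_center_iff.1 hyc) (π ⟨n, hn⟩)
      have h10 : π (⟨n, hn⟩ * y * ⟨n, hn⟩⁻¹ * y⁻¹) = 1 := by
        rw [map_mul, map_mul, map_mul, h9, map_inv, map_inv, mul_inv_cancel_right, mul_inv_cancel]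
      have h11 : (⟨n, hn⟩ * y * ⟨n, hn⟩⁻¹ * y⁻¹ : N) ∈ F.subgroupOf N := (QuotientGroup.eq_one_iff _).1 h10
      exact h11
    · exact h4
  have hNPF : ∀ n ∈ N, ∀ y ∈ P, n * y * n⁻¹ * y⁻¹ ∈ F := by
    intro n hn y hy
    rw [← hYP] at hy
    exact hy.2 n hn
  -- generators
  have hab : ∃ a ∈ P, ∃ b ∈ P, a * b ≠ b * a := by
    by_contra hcon
    push Not at hcon
    exact hPna ⟨⟨fun a b => Subtype.ext (hcon a a.2 b b.2)⟩⟩
  obtain ⟨a, ha, b, hb, hne⟩ := hab
  have haF : a ∉ F := fun h => hne (D.F_central h hb)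
  set c : H := a * b * a⁻¹ * b⁻¹ with hc
  have hcF : c ∈ F := D.comm (commutator_mem_commutator ha hb)
  have hc1 : c ≠ 1 := by
    intro h
    apply hne
    rw [hc, mul_inv_eq_one, mul_inv_eq_iff_eq_mul] at h
    exact h
  have hFc : F = zpowers c := by
    symm
    apply eq_of_le_of_card_ge ((zpowers_le).2 hcF)
    rw [hF, Nat.card_zpowers, orderOf_eq_prime (D.F_pow hcF) hc1]
  -- `F⟨a⟩` and `b` generate
  have hcent : ∀ x ∈ Q, a * x = x * a → b * x = x * b → x ∈ centralizer (P : Set H) := by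
    intro x hx hxa hxb
    set P₂ : Subgroup H := P ⊓ centralizer ({x} : Set H) with hP₂
    have h3 : F ⊔ zpowers a ≤ P₂ := by
      refine sup_le ?_ ?_
      · intro f hf
        refine ⟨D.F_le hf, mem_centralizer_singleton_iff.2 (hFQ f hf x hx).symm⟩
      · rw [zpowers_le]
        exact ⟨ha, mem_centralizer_singleton_iff.2 hxa⟩
    have h4 : b ∈ P₂ := ⟨hb, mem_centralizer_singleton_iff.2 hxb⟩
    have h5 : b ∉ F ⊔ zpowers a := by
      intro h
      have h6 := (elemAb_of D ha).1.is_comm.comm ⟨b, h⟩ ⟨a, mem_sup_right (mem_zpowers a)⟩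
      exact hne (congrArg Subtype.val h6).symm
    have h6 : F ⊔ zpowers a < P₂ := by
      refine lt_of_le_of_ne h3 fun h => h5 ?_
      rw [h]
      exact h4
    have h7 : p ^ 2 < Nat.card P₂ := by
      rw [← card_of D hF ha haF hr]
      exact lt_of_le_of_ne (card_le_of_le h6.le) fun h => h6.ne (eq_of_le_of_card_ge h6.le h.ge)
    have h8 : P₂ = P := by
      apply eq_of_le_of_card_ge inf_le_left
      have h9 : Nat.card P₂ ∣ p ^ 3 := by
        rw [← hPc]
        exact card_dvd_of_le inf_le_left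
      obtain ⟨k, hk3, hk⟩ := (Nat.dvd_prime_pow D.prime).1 h9
      rw [hk] at h7
      have h10 := (Nat.pow_lt_pow_iff_right D.prime.one_lt).1 h7
      have h11 : k = 3 := by omega
      rw [hPc, hk, h11]
    rw [mem_centralizer_iff]
    intro y hy
    have h9 : y ∈ P₂ := by rw [h8]; exact hy
    exact mem_centralizer_singleton_iff.1 h9.2
  -- `N = P C_Q(P)`
  have hNPC : ∀ n ∈ N, ∃ h ∈ P, ∃ e ∈ Q, e ∈ centralizer (P : Set H) ∧ n = h * e := by
    intro n hn
    have hn1 := hNPF n hn a ha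
    have hn2 := hNPF n hn b hb
    rw [hFc] at hn1 hn2
    obtain ⟨i, hi⟩ := mem_zpowers_iff.1 hn1
    obtain ⟨j, hj⟩ := mem_zpowers_iff.1 hn2
    have hca : Commute c a := D.F_central hcF ha
    have hcb : Commute c b := D.F_central hcF hb
    have hba : b * a * b⁻¹ = c⁻¹ * a := by rw [hc]; group
    set t : H := b ^ (-i) with ht
    set u : H := a ^ j with hu
    have htP : t ∈ P := P.zpow_mem hb _
    have huP : u ∈ P := P.zpow_mem ha _
    have h3 : u * b * u⁻¹ = c ^ j * b := conj_zpow (by rw [hc]; group) hca j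
    have h4 : t * a * t⁻¹ = c ^ i * a := by
      rw [ht, conj_zpow hba hcb.inv_left (-i), zpow_neg, inv_zpow, inv_inv]
    have h5 : u * a * u⁻¹ = a := by
      rw [((Commute.refl a).zpow_left j).eq, mul_inv_cancel_right]
    have h6 : t * b * t⁻¹ = b := by
      rw [((Commute.refl b).zpow_left (-i)).eq, mul_inv_cancel_right]
    have hcu : ∀ k : ℤ, u * c ^ k * u⁻¹ = c ^ k := by
      intro k
      rw [((hca.symm.zpow_left j).zpow_right k).eq, mul_inv_cancel_right]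
    -- `h = u t`
    have h7 : (u * t) * a * (u * t)⁻¹ = n * a * n⁻¹ := by
      calc (u * t) * a * (u * t)⁻¹ = u * (t * a * t⁻¹) * u⁻¹ := by group
        _ = (u * c ^ i * u⁻¹) * (u * a * u⁻¹) := by rw [h4]; group
        _ = c ^ i * a := by rw [hcu, h5]
        _ = n * a * n⁻¹ := by rw [hi]; group
    have h8 : (u * t) * b * (u * t)⁻¹ = n * b * n⁻¹ := by
      calc (u * t) * b * (u * t)⁻¹ = u * (t * b * t⁻¹) * u⁻¹ := by group
        _ = c ^ j * b := by rw [h6, h3]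
        _ = n * b * n⁻¹ := by rw [hj]; group
    refine ⟨u * t, P.mul_mem huP htP, (u * t)⁻¹ * n, Q.mul_mem (Q.inv_mem (hPQ (P.mul_mem huP htP))) (hNQ hn), ?_,
      by group⟩
    apply hcent _ (Q.mul_mem (Q.inv_mem (hPQ (P.mul_mem huP htP))) (hNQ hn))
    · have : (u * t)⁻¹ * n * a = (u * t)⁻¹ * (n * a * n⁻¹) * n := by group
      rw [this, ← h7]
      group
    · have : (u * t)⁻¹ * n * b = (u * t)⁻¹ * (n * b * n⁻¹) * n := by group
      rw [this, ← h8]
      group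
  -- elements of order `p` of `N` lie in `P`
  have hNP : ∀ x ∈ N, x ^ p = 1 → x ∈ P := by
    intro x hx hxp
    obtain ⟨h, hhP, e, heQ, heC, rfl⟩ := hNPC x hx
    have h3 : Commute h e := (mem_centralizer_iff.1 heC) h hhP
    rw [h3.mul_pow, D.pow_eq_one h hhP, one_mul] at hxp
    have h4 : e ∈ F ⊔ zpowers a := by
      refine mem_of_commute D hF ha haF hr hxp ((mem_centralizer_iff.1 heC) a ha) (fun f hf => ?_)
      exact (mem_centralizer_iff.1 heC) f (D.F_le hf)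
    exact P.mul_mem hhP ((sup_le D.F_le ((zpowers_le).2 ha) : F ⊔ zpowers a ≤ P) h4)
  -- `N = Q`
  have hNeq : N = Q := by
    have hnil : Group.IsNilpotent Q := hQp.isNilpotent
    have hnc := Group.normalizerCondition_of_isNilpotent (G := Q)
    by_contra hne2
    have h3 : N.subgroupOf Q < ⊤ := by
      rw [lt_top_iff_ne_top]
      intro h
      rw [subgroupOf_eq_top] at h
      exact hne2 (le_antisymm hNQ h)
    obtain ⟨x, hx1, hx2⟩ := SetLike.exists_of_lt (hnc _ h3)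
    apply hx2
    refine ⟨x.2, ?_⟩
    apply mem_normalizer_of_conj
    intro y hy
    have h4 : (⟨y, hPQ hy⟩ : Q) ∈ N.subgroupOf Q := hPN hy
    have h5 := (mem_normalizer_iff.1 hx1 _).1 h4
    refine hNP _ h5 ?_
    change ((x : H) * y * (x : H)⁻¹) ^ p = 1
    rw [conj_pow, D.pow_eq_one y hy, mul_one, mul_inv_cancel]
  intro x hx hxp
  rw [← hNeq] at hx
  exact hNP x hx hxp

/-- **(III')** `P = {x ∈ Q : x ^ p = 1}`. -/
theorem mem_of_pow (D : Dat p P S F) (hr : PRankLE p 2 H) {Q : Subgroup H} (hQn : Q.Normal)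
    (hQp : IsPGroup p Q) (hPQ : P ≤ Q) : ∀ x ∈ Q, x ^ p = 1 → x ∈ P := by
  rcases (Nat.dvd_prime D.prime).1 D.F_card with hF | hF
  · exact mem_of_pow_one D hF hr hQn hQp hPQ
  · exact mem_of_pow_prime D hF hr hQn hQp hPQ

/-- `P` is normal in `H`. -/
theorem normal (D : Dat p P S F) (hr : PRankLE p 2 H) (hPQ : P ≤ pCore p H) : P.Normal := by
  have hQn : (pCore p H).Normal := Lib.Cores.pCore_normal p
  have hQp : IsPGroup p (pCore p H) := Lib.Cores.pCore_isPGroup p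
  constructor
  intro x hx g
  refine mem_of_pow D hr hQn hQp hPQ _ (hQn.conj_mem x (hPQ hx) g) ?_
  rw [conj_pow, D.pow_eq_one x hx, mul_one, mul_inv_cancel]

end Cfsg.Agent.QTSolv.PCore
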